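import Cfsg.Agent.Lib.Helper35.ONNOrd.U0.Data

set_option Elab.async false

namespace Cfsg.Agent.Lib.Helper35.ONNOrd.U0

open Cfsg.Agent.Lib.Helper35

theorem s0c0 : allBelow (fun k => fs0 (Nat.add (Nat.succ 0) k)) 2480 = true := by decide +kernel
theorem s0u0 : ∀ v, 1 ≤ v → v ≤ 2480 → fs0 v = true := slots_step fs0 0 2480 2480 (slots_zero fs0) s0c0 rfl
theorem s0c1 : allBelow (fun k => fs0 (Nat.add (Nat.succ 2480) k)) 2462 = true := by decide +kernel
theorem s0u1 : ∀ v, 1 ≤ v → v ≤ 4942 → fs0 v = true := slots_step fs0 2480 2462 4942 s0u0 s0c1 rfl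
theorem s0c2 : allBelow (fun k => fs0 (Nat.add (Nat.succ 4942) k)) 2411 = true := by decide +kernel
theorem s0u2 : ∀ v, 1 ≤ v → v ≤ 7353 → fs0 v = true := slots_step fs0 4942 2411 7353 s0u1 s0c2 rfl
theorem s0c3 : allBelow (fun k => fs0 (Nat.add (Nat.succ 7353) k)) 2475 = true := by decide +kernel
theorem s0u3 : ∀ v, 1 ≤ v → v ≤ 9828 → fs0 v = true := slots_step fs0 7353 2475 9828 s0u2 s0c3 rfl
theorem s0c4 : allBelow (fun k => fs0 (Nat.add (Nat.succ 9828) k)) 2454 = true := by decide +kernel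
theorem s0u4 : ∀ v, 1 ≤ v → v ≤ 12282 → fs0 v = true := slots_step fs0 9828 2454 12282 s0u3 s0c4 rfl
theorem s0c5 : allBelow (fun k => fs0 (Nat.add (Nat.succ 12282) k)) 2411 = true := by decide +kernel
theorem s0u5 : ∀ v, 1 ≤ v → v ≤ 14693 → fs0 v = true := slots_step fs0 12282 2411 14693 s0u4 s0c5 rfl
theorem s0c6 : allBelow (fun k => fs0 (Nat.add (Nat.succ 14693) k)) 2413 = true := by decide +kernel
theorem s0u6 : ∀ v, 1 ≤ v → v ≤ 17106 → fs0 v = true := slots_step fs0 14693 2413 17106 s0u5 s0c6 rfl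
theorem s0c7 : allBelow (fun k => fs0 (Nat.add (Nat.succ 17106) k)) 2331 = true := by decide +kernel
theorem s0u7 : ∀ v, 1 ≤ v → v ≤ 19437 → fs0 v = true := slots_step fs0 17106 2331 19437 s0u6 s0c7 rfl
theorem s0c8 : allBelow (fun k => fs0 (Nat.add (Nat.succ 19437) k)) 2332 = true := by decide +kernel
theorem s0u8 : ∀ v, 1 ≤ v → v ≤ 21769 → fs0 v = true := slots_step fs0 19437 2332 21769 s0u7 s0c8 rfl
theorem s0c9 : allBelow (fun k => fs0 (Nat.add (Nat.succ 21769) k)) 2312 = true := by decide +kernel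
theorem s0u9 : ∀ v, 1 ≤ v → v ≤ 24081 → fs0 v = true := slots_step fs0 21769 2312 24081 s0u8 s0c9 rfl
theorem s0c10 : allBelow (fun k => fs0 (Nat.add (Nat.succ 24081) k)) 2008 = true := by decide +kernel
theorem s0u10 : ∀ v, 1 ≤ v → v ≤ 26089 → fs0 v = true := slots_step fs0 24081 2008 26089 s0u9 s0c10 rfl
theorem s1c0 : allBelow (fun k => fs1 (Nat.add (Nat.succ 0) k)) 2474 = true := by decide +kernel
theorem s1u0 : ∀ v, 1 ≤ v → v ≤ 2474 → fs1 v = true := slots_step fs1 0 2474 2474 (slots_zero fs1) s1c0 rfl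
theorem s1c1 : allBelow (fun k => fs1 (Nat.add (Nat.succ 2474) k)) 2458 = true := by decide +kernel
theorem s1u1 : ∀ v, 1 ≤ v → v ≤ 4932 → fs1 v = true := slots_step fs1 2474 2458 4932 s1u0 s1c1 rfl
theorem s1c2 : allBelow (fun k => fs1 (Nat.add (Nat.succ 4932) k)) 2420 = true := by decide +kernel
theorem s1u2 : ∀ v, 1 ≤ v → v ≤ 7352 → fs1 v = true := slots_step fs1 4932 2420 7352 s1u1 s1c2 rfl
theorem s1c3 : allBelow (fun k => fs1 (Nat.add (Nat.succ 7352) k)) 2450 = true := by decide +kernel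
theorem s1u3 : ∀ v, 1 ≤ v → v ≤ 9802 → fs1 v = true := slots_step fs1 7352 2450 9802 s1u2 s1c3 rfl
theorem s1c4 : allBelow (fun k => fs1 (Nat.add (Nat.succ 9802) k)) 2469 = true := by decide +kernel
theorem s1u4 : ∀ v, 1 ≤ v → v ≤ 12271 → fs1 v = true := slots_step fs1 9802 2469 12271 s1u3 s1c4 rfl
theorem s1c5 : allBelow (fun k => fs1 (Nat.add (Nat.succ 12271) k)) 2407 = true := by decide +kernel
theorem s1u5 : ∀ v, 1 ≤ v → v ≤ 14678 → fs1 v = true := slots_step fs1 12271 2407 14678 s1u4 s1c5 rfl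
theorem s1c6 : allBelow (fun k => fs1 (Nat.add (Nat.succ 14678) k)) 2388 = true := by decide +kernel
theorem s1u6 : ∀ v, 1 ≤ v → v ≤ 17066 → fs1 v = true := slots_step fs1 14678 2388 17066 s1u5 s1c6 rfl
theorem s1c7 : allBelow (fun k => fs1 (Nat.add (Nat.succ 17066) k)) 2357 = true := by decide +kernel
theorem s1u7 : ∀ v, 1 ≤ v → v ≤ 19423 → fs1 v = true := slots_step fs1 17066 2357 19423 s1u6 s1c7 rfl
theorem s1c8 : allBelow (fun k => fs1 (Nat.add (Nat.succ 19423) k)) 2323 = true := by decide +kernel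
theorem s1u8 : ∀ v, 1 ≤ v → v ≤ 21746 → fs1 v = true := slots_step fs1 19423 2323 21746 s1u7 s1c8 rfl
theorem s1c9 : allBelow (fun k => fs1 (Nat.add (Nat.succ 21746) k)) 2317 = true := by decide +kernel
theorem s1u9 : ∀ v, 1 ≤ v → v ≤ 24063 → fs1 v = true := slots_step fs1 21746 2317 24063 s1u8 s1c9 rfl
theorem s1c10 : allBelow (fun k => fs1 (Nat.add (Nat.succ 24063) k)) 2026 = true := by decide +kernel
theorem s1u10 : ∀ v, 1 ≤ v → v ≤ 26089 → fs1 v = true := slots_step fs1 24063 2026 26089 s1u9 s1c10 rfl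
theorem s2c0 : allBelow (fun k => fs2 (Nat.add (Nat.succ 0) k)) 2424 = true := by decide +kernel
theorem s2u0 : ∀ v, 1 ≤ v → v ≤ 2424 → fs2 v = true := slots_step fs2 0 2424 2424 (slots_zero fs2) s2c0 rfl
theorem s2c1 : allBelow (fun k => fs2 (Nat.add (Nat.succ 2424) k)) 2456 = true := by decide +kernel
theorem s2u1 : ∀ v, 1 ≤ v → v ≤ 4880 → fs2 v = true := slots_step fs2 2424 2456 4880 s2u0 s2c1 rfl
theorem s2c2 : allBelow (fun k => fs2 (Nat.add (Nat.succ 4880) k)) 2397 = true := by decide +kernel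
theorem s2u2 : ∀ v, 1 ≤ v → v ≤ 7277 → fs2 v = true := slots_step fs2 4880 2397 7277 s2u1 s2c2 rfl
theorem s2c3 : allBelow (fun k => fs2 (Nat.add (Nat.succ 7277) k)) 2395 = true := by decide +kernel
theorem s2u3 : ∀ v, 1 ≤ v → v ≤ 9672 → fs2 v = true := slots_step fs2 7277 2395 9672 s2u2 s2c3 rfl
theorem s2c4 : allBelow (fun k => fs2 (Nat.add (Nat.succ 9672) k)) 2351 = true := by decide +kernel
theorem s2u4 : ∀ v, 1 ≤ v → v ≤ 12023 → fs2 v = true := slots_step fs2 9672 2351 12023 s2u3 s2c4 rfl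
theorem s2c5 : allBelow (fun k => fs2 (Nat.add (Nat.succ 12023) k)) 2326 = true := by decide +kernel
theorem s2u5 : ∀ v, 1 ≤ v → v ≤ 14349 → fs2 v = true := slots_step fs2 12023 2326 14349 s2u4 s2c5 rfl
theorem s2c6 : allBelow (fun k => fs2 (Nat.add (Nat.succ 14349) k)) 2270 = true := by decide +kernel
theorem s2u6 : ∀ v, 1 ≤ v → v ≤ 16619 → fs2 v = true := slots_step fs2 14349 2270 16619 s2u5 s2c6 rfl
theorem s2c7 : allBelow (fun k => fs2 (Nat.add (Nat.succ 16619) k)) 2237 = true := by decide +kernel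
theorem s2u7 : ∀ v, 1 ≤ v → v ≤ 18856 → fs2 v = true := slots_step fs2 16619 2237 18856 s2u6 s2c7 rfl
theorem s2c8 : allBelow (fun k => fs2 (Nat.add (Nat.succ 18856) k)) 2257 = true := by decide +kernel
theorem s2u8 : ∀ v, 1 ≤ v → v ≤ 21113 → fs2 v = true := slots_step fs2 18856 2257 21113 s2u7 s2c8 rfl
theorem s2c9 : allBelow (fun k => fs2 (Nat.add (Nat.succ 21113) k)) 2235 = true := by decide +kernel
theorem s2u9 : ∀ v, 1 ≤ v → v ≤ 23348 → fs2 v = true := slots_step fs2 21113 2235 23348 s2u8 s2c9 rfl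
theorem s2c10 : allBelow (fun k => fs2 (Nat.add (Nat.succ 23348) k)) 2144 = true := by decide +kernel
theorem s2u10 : ∀ v, 1 ≤ v → v ≤ 25492 → fs2 v = true := slots_step fs2 23348 2144 25492 s2u9 s2c10 rfl
theorem s2c11 : allBelow (fun k => fs2 (Nat.add (Nat.succ 25492) k)) 597 = true := by decide +kernel
theorem s2u11 : ∀ v, 1 ≤ v → v ≤ 26089 → fs2 v = true := slots_step fs2 25492 597 26089 s2u10 s2c11 rfl
theorem s3c0 : allBelow (fun k => fs3 (Nat.add (Nat.succ 0) k)) 2614 = true := by decide +kernel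
theorem s3u0 : ∀ v, 1 ≤ v → v ≤ 2614 → fs3 v = true := slots_step fs3 0 2614 2614 (slots_zero fs3) s3c0 rfl
theorem s3c1 : allBelow (fun k => fs3 (Nat.add (Nat.succ 2614) k)) 2522 = true := by decide +kernel
theorem s3u1 : ∀ v, 1 ≤ v → v ≤ 5136 → fs3 v = true := slots_step fs3 2614 2522 5136 s3u0 s3c1 rfl
theorem s3c2 : allBelow (fun k => fs3 (Nat.add (Nat.succ 5136) k)) 2551 = true := by decide +kernel
theorem s3u2 : ∀ v, 1 ≤ v → v ≤ 7687 → fs3 v = true := slots_step fs3 5136 2551 7687 s3u1 s3c2 rfl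
theorem s3c3 : allBelow (fun k => fs3 (Nat.add (Nat.succ 7687) k)) 2605 = true := by decide +kernel
theorem s3u3 : ∀ v, 1 ≤ v → v ≤ 10292 → fs3 v = true := slots_step fs3 7687 2605 10292 s3u2 s3c3 rfl
theorem s3c4 : allBelow (fun k => fs3 (Nat.add (Nat.succ 10292) k)) 2505 = true := by decide +kernel
theorem s3u4 : ∀ v, 1 ≤ v → v ≤ 12797 → fs3 v = true := slots_step fs3 10292 2505 12797 s3u3 s3c4 rfl
theorem s3c5 : allBelow (fun k => fs3 (Nat.add (Nat.succ 12797) k)) 2408 = true := by decide +kernel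
theorem s3u5 : ∀ v, 1 ≤ v → v ≤ 15205 → fs3 v = true := slots_step fs3 12797 2408 15205 s3u4 s3c5 rfl
theorem s3c6 : allBelow (fun k => fs3 (Nat.add (Nat.succ 15205) k)) 2401 = true := by decide +kernel
theorem s3u6 : ∀ v, 1 ≤ v → v ≤ 17606 → fs3 v = true := slots_step fs3 15205 2401 17606 s3u5 s3c6 rfl
theorem s3c7 : allBelow (fun k => fs3 (Nat.add (Nat.succ 17606) k)) 2325 = true := by decide +kernel
theorem s3u7 : ∀ v, 1 ≤ v → v ≤ 19931 → fs3 v = true := slots_step fs3 17606 2325 19931 s3u6 s3c7 rfl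
theorem s3c8 : allBelow (fun k => fs3 (Nat.add (Nat.succ 19931) k)) 2313 = true := by decide +kernel
theorem s3u8 : ∀ v, 1 ≤ v → v ≤ 22244 → fs3 v = true := slots_step fs3 19931 2313 22244 s3u7 s3c8 rfl
theorem s3c9 : allBelow (fun k => fs3 (Nat.add (Nat.succ 22244) k)) 2277 = true := by decide +kernel
theorem s3u9 : ∀ v, 1 ≤ v → v ≤ 24521 → fs3 v = true := slots_step fs3 22244 2277 24521 s3u8 s3c9 rfl
theorem s3c10 : allBelow (fun k => fs3 (Nat.add (Nat.succ 24521) k)) 1568 = true := by decide +kernel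
theorem s3u10 : ∀ v, 1 ≤ v → v ≤ 26089 → fs3 v = true := slots_step fs3 24521 1568 26089 s3u9 s3c10 rfl
theorem s4c0 : allBelow (fun k => fs4 (Nat.add (Nat.succ 0) k)) 2611 = true := by decide +kernel
theorem s4u0 : ∀ v, 1 ≤ v → v ≤ 2611 → fs4 v = true := slots_step fs4 0 2611 2611 (slots_zero fs4) s4c0 rfl
theorem s4c1 : allBelow (fun k => fs4 (Nat.add (Nat.succ 2611) k)) 2667 = true := by decide +kernel
theorem s4u1 : ∀ v, 1 ≤ v → v ≤ 5278 → fs4 v = true := slots_step fs4 2611 2667 5278 s4u0 s4c1 rfl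
theorem s4c2 : allBelow (fun k => fs4 (Nat.add (Nat.succ 5278) k)) 2555 = true := by decide +kernel
theorem s4u2 : ∀ v, 1 ≤ v → v ≤ 7833 → fs4 v = true := slots_step fs4 5278 2555 7833 s4u1 s4c2 rfl
theorem s4c3 : allBelow (fun k => fs4 (Nat.add (Nat.succ 7833) k)) 2505 = true := by decide +kernel
theorem s4u3 : ∀ v, 1 ≤ v → v ≤ 10338 → fs4 v = true := slots_step fs4 7833 2505 10338 s4u2 s4c3 rfl
theorem s4c4 : allBelow (fun k => fs4 (Nat.add (Nat.succ 10338) k)) 2550 = true := by decide +kernel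
theorem s4u4 : ∀ v, 1 ≤ v → v ≤ 12888 → fs4 v = true := slots_step fs4 10338 2550 12888 s4u3 s4c4 rfl
theorem s4c5 : allBelow (fun k => fs4 (Nat.add (Nat.succ 12888) k)) 2561 = true := by decide +kernel
theorem s4u5 : ∀ v, 1 ≤ v → v ≤ 15449 → fs4 v = true := slots_step fs4 12888 2561 15449 s4u4 s4c5 rfl
theorem s4c6 : allBelow (fun k => fs4 (Nat.add (Nat.succ 15449) k)) 2455 = true := by decide +kernel
theorem s4u6 : ∀ v, 1 ≤ v → v ≤ 17904 → fs4 v = true := slots_step fs4 15449 2455 17904 s4u5 s4c6 rfl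
theorem s4c7 : allBelow (fun k => fs4 (Nat.add (Nat.succ 17904) k)) 2431 = true := by decide +kernel
theorem s4u7 : ∀ v, 1 ≤ v → v ≤ 20335 → fs4 v = true := slots_step fs4 17904 2431 20335 s4u6 s4c7 rfl
theorem s4c8 : allBelow (fun k => fs4 (Nat.add (Nat.succ 20335) k)) 2430 = true := by decide +kernel
theorem s4u8 : ∀ v, 1 ≤ v → v ≤ 22765 → fs4 v = true := slots_step fs4 20335 2430 22765 s4u7 s4c8 rfl
theorem s4c9 : allBelow (fun k => fs4 (Nat.add (Nat.succ 22765) k)) 2289 = true := by decide +kernel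
theorem s4u9 : ∀ v, 1 ≤ v → v ≤ 25054 → fs4 v = true := slots_step fs4 22765 2289 25054 s4u8 s4c9 rfl
theorem s4c10 : allBelow (fun k => fs4 (Nat.add (Nat.succ 25054) k)) 1035 = true := by decide +kernel
theorem s4u10 : ∀ v, 1 ≤ v → v ≤ 26089 → fs4 v = true := slots_step fs4 25054 1035 26089 s4u9 s4c10 rfl
theorem s5c0 : allBelow (fun k => fs5 (Nat.add (Nat.succ 0) k)) 2610 = true := by decide +kernel
theorem s5u0 : ∀ v, 1 ≤ v → v ≤ 2610 → fs5 v = true := slots_step fs5 0 2610 2610 (slots_zero fs5) s5c0 rfl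
theorem s5c1 : allBelow (fun k => fs5 (Nat.add (Nat.succ 2610) k)) 2578 = true := by decide +kernel
theorem s5u1 : ∀ v, 1 ≤ v → v ≤ 5188 → fs5 v = true := slots_step fs5 2610 2578 5188 s5u0 s5c1 rfl
theorem s5c2 : allBelow (fun k => fs5 (Nat.add (Nat.succ 5188) k)) 2611 = true := by decide +kernel
theorem s5u2 : ∀ v, 1 ≤ v → v ≤ 7799 → fs5 v = true := slots_step fs5 5188 2611 7799 s5u1 s5c2 rfl
theorem s5c3 : allBelow (fun k => fs5 (Nat.add (Nat.succ 7799) k)) 2591 = true := by decide +kernel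
theorem s5u3 : ∀ v, 1 ≤ v → v ≤ 10390 → fs5 v = true := slots_step fs5 7799 2591 10390 s5u2 s5c3 rfl
theorem s5c4 : allBelow (fun k => fs5 (Nat.add (Nat.succ 10390) k)) 2511 = true := by decide +kernel
theorem s5u4 : ∀ v, 1 ≤ v → v ≤ 12901 → fs5 v = true := slots_step fs5 10390 2511 12901 s5u3 s5c4 rfl
theorem s5c5 : allBelow (fun k => fs5 (Nat.add (Nat.succ 12901) k)) 2501 = true := by decide +kernel
theorem s5u5 : ∀ v, 1 ≤ v → v ≤ 15402 → fs5 v = true := slots_step fs5 12901 2501 15402 s5u4 s5c5 rfl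
theorem s5c6 : allBelow (fun k => fs5 (Nat.add (Nat.succ 15402) k)) 2455 = true := by decide +kernel
theorem s5u6 : ∀ v, 1 ≤ v → v ≤ 17857 → fs5 v = true := slots_step fs5 15402 2455 17857 s5u5 s5c6 rfl
theorem s5c7 : allBelow (fun k => fs5 (Nat.add (Nat.succ 17857) k)) 2413 = true := by decide +kernel
theorem s5u7 : ∀ v, 1 ≤ v → v ≤ 20270 → fs5 v = true := slots_step fs5 17857 2413 20270 s5u6 s5c7 rfl
theorem s5c8 : allBelow (fun k => fs5 (Nat.add (Nat.succ 20270) k)) 2380 = true := by decide +kernel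
theorem s5u8 : ∀ v, 1 ≤ v → v ≤ 22650 → fs5 v = true := slots_step fs5 20270 2380 22650 s5u7 s5c8 rfl
theorem s5c9 : allBelow (fun k => fs5 (Nat.add (Nat.succ 22650) k)) 2351 = true := by decide +kernel
theorem s5u9 : ∀ v, 1 ≤ v → v ≤ 25001 → fs5 v = true := slots_step fs5 22650 2351 25001 s5u8 s5c9 rfl
theorem s5c10 : allBelow (fun k => fs5 (Nat.add (Nat.succ 25001) k)) 1088 = true := by decide +kernel
theorem s5u10 : ∀ v, 1 ≤ v → v ≤ 26089 → fs5 v = true := slots_step fs5 25001 1088 26089 s5u9 s5c10 rfl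
theorem s6c0 : allBelow (fun k => fs6 (Nat.add (Nat.succ 0) k)) 6911 = true := by decide +kernel
theorem s6u0 : ∀ v, 1 ≤ v → v ≤ 6911 → fs6 v = true := slots_step fs6 0 6911 6911 (slots_zero fs6) s6c0 rfl
theorem s6c1 : allBelow (fun k => fs6 (Nat.add (Nat.succ 6911) k)) 6842 = true := by decide +kernel
theorem s6u1 : ∀ v, 1 ≤ v → v ≤ 13753 → fs6 v = true := slots_step fs6 6911 6842 13753 s6u0 s6c1 rfl
theorem s6c2 : allBelow (fun k => fs6 (Nat.add (Nat.succ 13753) k)) 6899 = true := by decide +kernel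
theorem s6u2 : ∀ v, 1 ≤ v → v ≤ 20652 → fs6 v = true := slots_step fs6 13753 6899 20652 s6u1 s6c2 rfl
theorem s6c3 : allBelow (fun k => fs6 (Nat.add (Nat.succ 20652) k)) 5437 = true := by decide +kernel
theorem s6u3 : ∀ v, 1 ≤ v → v ≤ 26089 → fs6 v = true := slots_step fs6 20652 5437 26089 s6u2 s6c3 rfl
theorem gz : countBelow gl 0 = 0 := rfl
theorem gk0 : countBelow (fun k => gl (Nat.add 0 k)) 13822 = 13804 := by decide +kernel
theorem gn0 : countBelow gl 13822 = 13804 := countBelow_step gl 0 13822 13822 0 13804 13804 gz gk0 rfl rfl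
theorem gk1 : countBelow (fun k => gl (Nat.add 13822 k)) 12267 = 12264 := by decide +kernel
theorem gn1 : countBelow gl 26089 = 26068 := countBelow_step gl 13822 12267 26089 13804 12264 26068 gn0 gk1 rfl rfl

end Cfsg.Agent.Lib.Helper35.ONNOrd.U0
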